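import Mathlib
import Cfsg.Agent.FixBN.Defs
import Cfsg.Agent.Tits.Rigid
import Cfsg.Agent.Cit.Parity_m3
import Cfsg.Agent.H729.PairTool_m3
import Cfsg.Agent.FixBN.OfBN
import Cfsg.Agent.S0320
import Cfsg.Agent.Solvable.FrobeniusTheorem
import Cfsg.Agent.FastGrp
import Cfsg.Agent.Prune
set_option linter.all false

section
prune_inst 0x7f00000000000000000000000000000000000000000000000000000000000000000000000000000000000000000000000000000000000000000000000000000000000000000000000000000000000000003fffffffffffffffffffffffffffbeffbdffffffff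

-- part: H463/RegUnip
section
set_option linter.all false
open scoped Cfsg.Agent.FastGrp

-- part: H463/RegOrbit
section
/-!
# Abelian groups acting coprimely on abelian groups have a regular orbit

`exists_regular` : `T` abelian, normalising the abelian subgroup `A`, orders coprime; there is `a ∈ A` such that every
element of `T` commuting with `a` centralises `A`.
-/

set_option autoImplicit false

namespace Cfsg.Agent.H463.RegOrbit

variable {G : Type*} [Group G]

/-- the commutator map of an element normalising an abelian subgroup -/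
def cm (A : Subgroup G) (hA : ∀ a ∈ A, ∀ b ∈ A, a * b = b * a) (t : G) (hn : ∀ a ∈ A, t * a * t⁻¹ ∈ A) :
    ↥A →* ↥A where
  toFun a := ⟨t * a * t⁻¹ * (a : G)⁻¹, mul_mem (hn a a.2) (inv_mem a.2)⟩
  map_one' := Subtype.ext (by simp)
  map_mul' a b := Subtype.ext (by
    have h1 := hA _ (inv_mem a.2) _ (mul_mem (hn b b.2) (inv_mem b.2))
    show t * ((a : G) * b) * t⁻¹ * ((a : G) * b)⁻¹ = (t * a * t⁻¹ * (a : G)⁻¹) * (t * b * t⁻¹ * (b : G)⁻¹)
    calc t * ((a : G) * b) * t⁻¹ * ((a : G) * b)⁻¹ = (t * a * t⁻¹) * ((t * b * t⁻¹ * (b : G)⁻¹) * (a : G)⁻¹) := by group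
      _ = (t * a * t⁻¹) * ((a : G)⁻¹ * (t * b * t⁻¹ * (b : G)⁻¹)) := by rw [h1]
      _ = _ := by group)

theorem pow_conj {t u w : G} (h1 : t * u * t⁻¹ = w * u) (h2 : t * w = w * t) (n : ℕ) :
    t ^ n * u * (t ^ n)⁻¹ = w ^ n * u := by
  induction n with
  | zero => simp
  | succ n ih =>
    have h3 : Commute (t ^ n) w := (show Commute t w from h2).pow_left n
    calc t ^ (n + 1) * u * (t ^ (n + 1))⁻¹ = t ^ n * (t * u * t⁻¹) * (t ^ n)⁻¹ := by rw [pow_succ]; group
      _ = t ^ n * w * u * (t ^ n)⁻¹ := by rw [h1]; group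
      _ = w * (t ^ n * u * (t ^ n)⁻¹) := by rw [h3.eq]; group
      _ = w ^ (n + 1) * u := by rw [ih, pow_succ']; group

/-- **Regular orbit.** -/
theorem exists_regular [Finite G] (T A : Subgroup G)
    (hA : ∀ a ∈ A, ∀ b ∈ A, a * b = b * a) (hT : ∀ s ∈ T, ∀ t ∈ T, s * t = t * s)
    (hn : ∀ t ∈ T, ∀ a ∈ A, t * a * t⁻¹ ∈ A)
    (hc : ∀ t ∈ T, (orderOf t).Coprime (Nat.card A)) :
    ∃ a ∈ A, ∀ t ∈ T, t * a = a * t → ∀ b ∈ A, t * b = b * t := by
  induction hk : Nat.card A using Nat.strong_induction_on generalizing A with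
  | _ k ih =>
  by_cases hcase : ∃ t ∈ T, (∃ a ∈ A, a ≠ 1 ∧ t * a = a * t) ∧ ∃ b ∈ A, t * b ≠ b * t
  · obtain ⟨t, ht, ⟨a0, ha0, ha01, hta0⟩, b0, hb0, htb0⟩ := hcase
    set f := cm A hA t (hn t ht) with hf
    have hfv : ∀ a : A, (f a : G) = t * a * t⁻¹ * (a : G)⁻¹ := fun a => rfl
    have hker : ∀ a : A, a ∈ f.ker ↔ t * (a : G) = a * t := by
      intro a
      rw [MonoidHom.mem_ker]
      constructor
      · intro h
        have h1 := congrArg (Subtype.val) h
        rw [hfv] at h1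
        have h2 : t * (a : G) * t⁻¹ = a := by
          have := congrArg (· * (a : G)) h1
          simpa only [_root_.inv_mul_cancel_right, _root_.OneMemClass.coe_one, _root_.one_mul] using this
        calc t * (a : G) = t * a * t⁻¹ * t := by group
          _ = a * t := by rw [h2]
      · intro h
        apply Subtype.ext
        rw [hfv, h]
        simp
    set C : Subgroup G := f.ker.map A.subtype with hC
    set D : Subgroup G := f.range.map A.subtype with hD
    have hCle : C ≤ A := Subgroup.map_subtype_le _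
    have hDle : D ≤ A := Subgroup.map_subtype_le _
    have memC : ∀ c, c ∈ C ↔ c ∈ A ∧ t * c = c * t := by
      intro c
      constructor
      · rintro ⟨a, ha, rfl⟩
        exact ⟨a.2, (hker a).1 ha⟩
      · rintro ⟨h1, h2⟩
        exact ⟨⟨c, h1⟩, (hker _).2 h2, rfl⟩
    have memD : ∀ d, d ∈ D ↔ ∃ a ∈ A, d = t * a * t⁻¹ * a⁻¹ := by
      intro d
      constructor
      · rintro ⟨_, ⟨a, rfl⟩, rfl⟩
        exact ⟨a, a.2, rfl⟩
      · rintro ⟨a, ha, rfl⟩
        exact ⟨_, ⟨⟨a, ha⟩, rfl⟩, rfl⟩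
    -- `C ∩ D = 1`
    have hCD : ∀ w, w ∈ C → w ∈ D → w = 1 := by
      intro w hw hw'
      obtain ⟨hwA, htw⟩ := (memC w).1 hw
      obtain ⟨u, hu, hwu⟩ := (memD w).1 hw'
      have h1 : t * u * t⁻¹ = w * u := by rw [hwu]; group
      have h2 := pow_conj h1 htw (orderOf t)
      rw [pow_orderOf_eq_one, one_mul, inv_one, mul_one] at h2
      have h3 : w ^ orderOf t = 1 := by
        have := congrArg (· * u⁻¹) h2
        simpa using this.symm
      have h4 : orderOf w ∣ Nat.card A := by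
        have := orderOf_dvd_natCard (⟨w, hwA⟩ : A)
        rwa [Subgroup.orderOf_mk] at this
      have h5 : orderOf w = 1 :=
        Nat.eq_one_of_dvd_coprimes (hc t ht) (orderOf_dvd_of_pow_eq_one h3) h4
      exact orderOf_eq_one_iff.1 h5
    have hcardC : Nat.card C = Nat.card f.ker :=
      (Nat.card_congr (f.ker.equivMapOfInjective _ A.subtype_injective).toEquiv).symm
    have hcardD : Nat.card D = Nat.card f.range :=
      (Nat.card_congr (f.range.equivMapOfInjective _ A.subtype_injective).toEquiv).symm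
    have hcard : Nat.card C * Nat.card D = Nat.card A := by
      have h1 : Nat.card (A ⧸ f.ker) = Nat.card f.range :=
        Nat.card_congr (QuotientGroup.quotientKerEquivRange f).toEquiv
      rw [hcardC, hcardD, ← h1, mul_comm]
      exact (Subgroup.card_eq_card_quotient_mul_card_subgroup f.ker).symm
    have hC1 : 1 < Nat.card C := by
      rw [Subgroup.one_lt_card_iff_ne_bot]
      intro h
      have : a0 ∈ C := (memC a0).2 ⟨ha0, hta0⟩
      rw [h, Subgroup.mem_bot] at this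
      exact ha01 this
    have hD1 : 1 < Nat.card D := by
      rw [Subgroup.one_lt_card_iff_ne_bot]
      intro h
      have h1 : t * b0 * t⁻¹ * b0⁻¹ ∈ D := (memD _).2 ⟨b0, hb0, rfl⟩
      rw [h, Subgroup.mem_bot] at h1
      apply htb0
      have h2 : t * b0 * t⁻¹ = b0 := by
        have := congrArg (· * b0) h1
        simpa only [_root_.inv_mul_cancel_right, _root_.one_mul] using this
      calc t * b0 = t * b0 * t⁻¹ * t := by group
        _ = b0 * t := by rw [h2]
    have hCk : Nat.card C < k := by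
      rw [← hk, ← hcard]
      exact lt_mul_of_one_lt_right (by omega) hD1
    have hDk : Nat.card D < k := by
      rw [← hk, ← hcard]
      exact lt_mul_of_one_lt_left (by omega) hC1
    have hnC : ∀ s ∈ T, ∀ a ∈ C, s * a * s⁻¹ ∈ C := by
      intro s hs a ha
      obtain ⟨h1, h2⟩ := (memC a).1 ha
      refine (memC _).2 ⟨hn s hs a h1, ?_⟩
      have h3 := hT s hs t ht
      have h4 : t * s⁻¹ = s⁻¹ * t := by
        rw [eq_inv_mul_iff_mul_eq, ← mul_assoc, h3, mul_assoc, mul_inv_cancel, mul_one]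
      calc t * (s * a * s⁻¹) = (t * s) * a * s⁻¹ := by group
        _ = s * (t * a) * s⁻¹ := by rw [← h3]; group
        _ = s * a * (t * s⁻¹) := by rw [h2]; group
        _ = s * a * s⁻¹ * t := by rw [h4]; group
    have hnD : ∀ s ∈ T, ∀ a ∈ D, s * a * s⁻¹ ∈ D := by
      intro s hs a ha
      obtain ⟨u, hu, rfl⟩ := (memD a).1 ha
      refine (memD _).2 ⟨s * u * s⁻¹, hn s hs u hu, ?_⟩
      have h3 := hT s hs t ht
      calc s * (t * u * t⁻¹ * u⁻¹) * s⁻¹ = (s * t) * u * (s * t)⁻¹ * s * u⁻¹ * s⁻¹ := by group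
        _ = (t * s) * u * (t * s)⁻¹ * s * u⁻¹ * s⁻¹ := by rw [h3]
        _ = _ := by group
    have hcC : ∀ t ∈ T, (orderOf t).Coprime (Nat.card C) := fun t ht =>
      Nat.Coprime.coprime_dvd_right (Subgroup.card_dvd_of_le hCle) (hc t ht)
    have hcD : ∀ t ∈ T, (orderOf t).Coprime (Nat.card D) := fun t ht =>
      Nat.Coprime.coprime_dvd_right (Subgroup.card_dvd_of_le hDle) (hc t ht)
    obtain ⟨c, hc1, hc2⟩ := ih _ hCk C (fun a ha b hb => hA a (hCle ha) b (hCle hb)) hnC hcC rfl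
    obtain ⟨d, hd1, hd2⟩ := ih _ hDk D (fun a ha b hb => hA a (hDle ha) b (hDle hb)) hnD hcD rfl
    refine ⟨c * d, mul_mem (hCle hc1) (hDle hd1), fun s hs hscd => ?_⟩
    have h1 : c⁻¹ * (s * c * s⁻¹) = d * (s * d * s⁻¹)⁻¹ := by
      have h2 : (s * c * s⁻¹) * (s * d * s⁻¹) = c * d := by
        calc (s * c * s⁻¹) * (s * d * s⁻¹) = s * (c * d) * s⁻¹ := by group
          _ = c * d := by rw [hscd]; group
      rw [eq_mul_inv_iff_mul_eq, mul_assoc, h2]
      group
    have h2 : c⁻¹ * (s * c * s⁻¹) = 1 := by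
      apply hCD
      · exact mul_mem (inv_mem hc1) (hnC s hs c hc1)
      · rw [h1]; exact mul_mem hd1 (inv_mem (hnD s hs d hd1))
    have h3 : s * c = c * s := by
      have h4 : s * c * s⁻¹ = c := by
        have := congrArg (c * ·) h2
        simpa only [_root_.mul_inv_cancel_left, _root_.mul_one] using this
      calc s * c = s * c * s⁻¹ * s := by group
        _ = c * s := by rw [h4]
    have h4 : s * d = d * s := by
      rw [h2] at h1
      have h5 : s * d * s⁻¹ = d := (mul_inv_eq_one.1 h1.symm).symm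
      calc s * d = s * d * s⁻¹ * s := by group
        _ = d * s := by rw [h5]
    have h5 := hc2 s hs h3
    have h6 := hd2 s hs h4
    -- `A = C D`
    let g : ↥C × ↥D → ↥A := fun x => ⟨(x.1 : G) * x.2, mul_mem (hCle x.1.2) (hDle x.2.2)⟩
    have hg : Function.Injective g := by
      rintro ⟨x, y⟩ ⟨x', y'⟩ hxy
      have h7 : (x : G) * y = x' * y' := congrArg Subtype.val hxy
      have h8 : (x' : G)⁻¹ * x = y' * (y : G)⁻¹ := by
        rw [eq_mul_inv_iff_mul_eq, mul_assoc, h7]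
        group
      have h9 : (x' : G)⁻¹ * x = 1 :=
        hCD _ (mul_mem (inv_mem x'.2) x.2) (by rw [h8]; exact mul_mem y'.2 (inv_mem y.2))
      have h10 : (x : G) = x' := by
        have := congrArg ((x' : G) * ·) h9
        simpa using this
      have h11 : (y : G) = y' := by
        rw [h10] at h7
        exact mul_left_cancel h7
      exact Prod.ext (Subtype.ext h10) (Subtype.ext h11)
    have hgs : Function.Surjective g :=
      (hg.bijective_of_nat_card_le (by rw [Nat.card_prod, hcard])).2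
    intro b hb
    obtain ⟨⟨x, y⟩, hxy⟩ := hgs ⟨b, hb⟩
    have h7 : (x : G) * y = b := congrArg Subtype.val hxy
    have h8 := h5 x x.2
    have h9 := h6 y y.2
    calc s * b = s * x * y := by rw [← h7, mul_assoc]
      _ = x * (s * y) := by rw [h8, mul_assoc]
      _ = b * s := by rw [h9, ← mul_assoc, h7]
  · push Not at hcase
    by_cases hA1 : ∃ a ∈ A, a ≠ 1
    · obtain ⟨a, ha, ha1⟩ := hA1
      exact ⟨a, ha, fun t ht h => hcase t ht ⟨a, ha, ha1, h⟩⟩
    · push Not at hA1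
      refine ⟨1, one_mem _, fun t _ _ b hb => ?_⟩
      rw [hA1 b hb, mul_one, one_mul]

end Cfsg.Agent.H463.RegOrbit
end

-- part: H463/RegUnip
section
/-!
# Regular unipotent elements

`S : Sys Δ G p` the system of a group with a split (B,N)-pair of characteristic `p`, `x₀`, `y₀` opposite chambers
with abelian common stabiliser.

* `eq_of_reg` : an element of `U x₀` fixing no chamber adjacent to `x₀` fixes only `x₀`;
* `exists_indep` : independence of the panels of `x₀`;
* `exists_regular_unipotent` : there is `z ∈ U x₀` fixing only `x₀` and commuting with no element of prime order `≠ p`.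
-/

set_option autoImplicit false
set_option linter.unusedSectionVars false

namespace Cfsg.Agent.H463.RegUnip

open Cfsg.Agent.Tits.Core Cfsg.Agent.Tits.Core.Bldg Cfsg.Agent.FixBN Cfsg.Agent.Tits.OppRes
open scoped commutatorElement

section FixedPoints

variable {G C : Type*} [Group G] [MulAction G C]

/-- An element of prime order `r ≠ p` preserving an orbit of a `p`-group fixes a point of it. -/
theorem exists_fix_orbit [Finite G] {p r : ℕ} [hp : Fact p.Prime] [hr : Fact r.Prime] (hne : r ≠ p)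
    {P : Subgroup G} (hP : IsPGroup p P) {g : G} (hg : orderOf g = r) (c : C)
    (h : ∀ y ∈ MulAction.orbit P c, g • y ∈ MulAction.orbit P c) :
    ∃ y ∈ MulAction.orbit P c, g • y = y := by
  let X : SubMulAction (Subgroup.zpowers g) C :=
    { carrier := MulAction.orbit P c
      smul_mem' := by
        rintro ⟨k, hk⟩ y hy
        rw [← mem_powers_iff_mem_zpowers, Submonoid.mem_powers_iff] at hk
        obtain ⟨n, rfl⟩ := hk
        show g ^ n • y ∈ MulAction.orbit P c
        clear hk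
        induction n with
        | zero => simpa using hy
        | succ n ih => rw [pow_succ', mul_smul]; exact h _ ih }
  have hfin : Finite (MulAction.orbit P c) := Finite.of_surjective (fun u : P => (⟨u • c, MulAction.mem_orbit c u⟩ :
    MulAction.orbit P c)) (by rintro ⟨_, u, rfl⟩; exact ⟨u, rfl⟩)
  have hfinX : Finite X := hfin
  have hcard : ¬ r ∣ Nat.card X := by
    intro hd
    obtain ⟨n, hn⟩ := hP.card_orbit c
    have h1 : Nat.card X = Nat.card (MulAction.orbit P c) := rfl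
    rw [h1, hn] at hd
    exact hne ((Nat.prime_dvd_prime_iff_eq hr.1 hp.1).1 (hr.1.dvd_of_dvd_pow hd))
  have hz : IsPGroup r (Subgroup.zpowers g) := by
    rw [IsPGroup.iff_card]
    exact ⟨1, by rw [Nat.card_zpowers, hg, pow_one]⟩
  obtain ⟨⟨y, hy⟩, hfix⟩ := hz.nonempty_fixed_point_of_prime_not_dvd_card X hcard
  refine ⟨y, hy, ?_⟩
  have := hfix ⟨g, Subgroup.mem_zpowers g⟩
  exact congrArg Subtype.val this

end FixedPoints

/-- Relative form of `RegOrbit.exists_regular`. -/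
theorem exists_reg_rel {H : Type*} [Group H] [Finite H] {p : ℕ} [Fact p.Prime] {U N T : Subgroup H} [U.Normal]
    [N.Normal] (hUN : ⁅U, U⁆ ≤ N) (hNU : ¬ U ≤ N) (hU : IsPGroup p U) (hTc : ∀ a ∈ T, ∀ b ∈ T, a * b = b * a)
    (hTp : ∀ t ∈ T, (orderOf t).Coprime p) :
    ∃ a ∈ U, a ∉ N ∧ ∀ t ∈ T, t * a * t⁻¹ * a⁻¹ ∈ N → ∀ b ∈ U, t * b * t⁻¹ * b⁻¹ ∈ N := by
  let π := QuotientGroup.mk' N
  have hπ : ∀ {g h : H}, g * h * g⁻¹ * h⁻¹ ∈ N ↔ π g * π h = π h * π g := by
    intro g h
    rw [← QuotientGroup.eq_one_iff (N := N)]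
    change π (g * h * g⁻¹ * h⁻¹) = 1 ↔ _
    rw [map_mul, map_mul, map_mul, map_inv, map_inv, mul_inv_eq_one, mul_inv_eq_iff_eq_mul]
  have hcard : ∃ n, Nat.card (U.map π) = p ^ n := IsPGroup.iff_card.1 (hU.map π)
  obtain ⟨n, hn⟩ := hcard
  obtain ⟨a, ha, hreg⟩ := RegOrbit.exists_regular (T.map π) (U.map π)
    (by
      rintro _ ⟨a, ha, rfl⟩ _ ⟨b, hb, rfl⟩
      exact hπ.1 (hUN (Subgroup.commutator_mem_commutator ha hb)))
    (by
      rintro _ ⟨a, ha, rfl⟩ _ ⟨b, hb, rfl⟩
      rw [← map_mul, hTc a ha b hb, map_mul])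
    (by
      rintro _ ⟨t, ht, rfl⟩ _ ⟨a, ha, rfl⟩
      refine ⟨t * a * t⁻¹, Subgroup.Normal.conj_mem inferInstance a ha t, by simp only [map_mul, _root_.map_inv]⟩)
    (by
      rintro _ ⟨t, ht, rfl⟩
      rw [hn]
      refine Nat.Coprime.pow_right n ?_
      exact Nat.Coprime.coprime_dvd_left (orderOf_map_dvd π t) (hTp t ht))
  obtain ⟨a, ha, rfl⟩ := ha
  by_cases haN : a ∈ N
  · obtain ⟨a', ha', hna'⟩ := SetLike.not_le_iff_exists.1 hNU
    refine ⟨a', ha', hna', fun t ht _ b hb => ?_⟩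
    rw [hπ]
    refine hreg (π t) ⟨t, ht, rfl⟩ ?_ (π b) ⟨b, hb, rfl⟩
    have : π a = 1 := (QuotientGroup.eq_one_iff a).2 haN
    rw [this, mul_one, one_mul]
  · refine ⟨a, ha, haN, fun t ht h b hb => ?_⟩
    rw [hπ] at h ⊢
    exact hreg (π t) ⟨t, ht, rfl⟩ h (π b) ⟨b, hb, rfl⟩

section Building

variable {I : Type*} {M : CoxeterMatrix I} {W : Type*} [Group W] {cs : CoxeterSystem M W} {C : Type*}
  {Δ : Bldg cs C} {G : Type*} [Group G] [MulAction G C] {p : ℕ}

theorem exists_left_descent [Cox cs] {w : W} (h : w ≠ 1) :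
    ∃ i, cs.length (cs.simple i * w) < cs.length w := by
  have F : Cox cs := inferInstance
  obtain ⟨j, -, hj⟩ := F.exists_descent (J := Set.univ) (v := w⁻¹) (by rw [WJ_univ]; trivial)
    (by rwa [Ne, inv_eq_one])
  refine ⟨j, ?_⟩
  rw [cs.length_inv] at hj
  have h1 : (w⁻¹ * cs.simple j)⁻¹ = cs.simple j * w := by rw [mul_inv_rev, inv_inv, cs.inv_simple]
  rwa [← cs.length_inv, h1] at hj

/-- An element fixing `x` but no chamber adjacent to `x` fixes only `x`. -/
theorem eq_of_reg [Cox cs] (hiso : ∀ (g : G) (x y : C), Δ.δ (g • x) (g • y) = Δ.δ x y) {x : C} {u : G}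
    (hu : u • x = x) (hreg : ∀ i y, Δ.δ x y = cs.simple i → u • y ≠ y) {y : C} (hy : u • y = y) : y = x := by
  by_contra hne
  have h1 : Δ.δ x y ≠ 1 := fun h => hne ((Δ.eq_one x y).1 h).symm
  obtain ⟨i, hi⟩ := exists_left_descent (cs := cs) h1
  obtain ⟨d, hd1, hd2⟩ := Δ.exists_step y x i
  apply hreg i d hd1
  have h2 : Δ.δ x (u • d) = cs.simple i := by
    rw [← hd1]
    conv_lhs => rw [← hu]
    exact hiso u x d
  have h3 : Δ.δ y (u • d) = Δ.δ y x * cs.simple i := by
    rw [← hd2]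
    conv_lhs => rw [← hy]
    exact hiso u y d
  refine Tits.Rigid.eq_of_short (Δ := Δ) (j := i) h3 hd2 ?_ ?_
  · rw [mul_assoc, cs.simple_mul_simple_self, mul_one]
    have h4 : Δ.δ y x * cs.simple i = (cs.simple i * Δ.δ x y)⁻¹ := by
      rw [mul_inv_rev, cs.inv_simple, ← Δ.symm x y]
    rw [h4, cs.length_inv, len_symm]
    exact hi
  · have h6 : u • d ∈ Δ.Pan i x := Or.inr h2
    have h7 : d ∈ Δ.Pan i x := Or.inr hd1
    have h8 := Δ.mem_Pan_trans (Δ.mem_Pan_symm h6) h7
    exact Tits.Rigid.mem_Pan_Res h8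

theorem length_mul_of_ne [F : Cox cs] {i j : I} (h : i ≠ j) : cs.length (cs.simple i * cs.simple j) = 2 := by
  have h1 := cs.length_simple_mul (cs.simple j) i
  rw [cs.length_simple] at h1
  rcases h1 with h1 | h1
  · exact h1
  · exfalso
    have h2 : cs.length (cs.simple i * cs.simple j) = 0 := by omega
    rw [cs.length_eq_zero_iff] at h2
    apply h
    apply F.inj
    rw [← cs.inv_simple j]
    exact eq_inv_of_mul_eq_one_left h2

/-- **Independence of the panels.** `x`, `y` opposite, `y₁` the chamber of the `i`-panel of `x` nearest to `y`. -/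
theorem exists_indep [F : Cox cs] (S : Sys Δ G p) {x y : C} (hxy : Δ.Opp x y) {i : I} {y₁ : C}
    (h1 : Δ.δ x y₁ = cs.simple i) (h1' : Δ.δ y y₁ = w0 cs * cs.simple i) {z : C} (hz : Δ.δ x z = cs.simple i) :
    ∃ u ∈ S.U x, u • y₁ = z ∧ ∀ j, j ≠ i → ∀ d ∈ Δ.Pan j x, u • d = d := by
  have hww := F.w0_mul_self
  have hxy' : Δ.δ x y = w0 cs := hxy
  set i' := Cfsg.Agent.Tits.Core.op cs i with hi'
  have hop : cs.simple i' = w0 cs * cs.simple i * w0 cs := F.op i
  have hop2 : w0 cs * cs.simple i' = cs.simple i * w0 cs := by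
    rw [hop, ← mul_assoc, ← mul_assoc, hww, one_mul]
  have hlen : cs.length (cs.simple i * w0 cs) + 1 = cs.length (w0 cs) := by
    have := F.len_mul_w0 (cs.simple i)
    rwa [cs.length_simple] at this
  have hlen' : cs.length (w0 cs * cs.simple i) + 1 = cs.length (w0 cs) := by
    have := F.len_w0_mul (cs.simple i)
    rwa [cs.length_simple] at this
  -- the chamber `c`
  obtain ⟨c, hc1, hc2⟩ := Δ.exists_step x y i'
  rw [hxy', hop2] at hc2
  -- `z` is opposite to `c`
  have hzc : Δ.δ z c = w0 cs := by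
    have h2 := Δ.step_lt_left (z := c) (delta_simple_symm hz) (by
      rw [hc2, ← mul_assoc, cs.simple_mul_simple_self, one_mul]; omega)
    rw [h2, hc2, ← mul_assoc, cs.simple_mul_simple_self, one_mul]
  obtain ⟨z', hz1, hz2⟩ := Δ.exists_step z c i'
  rw [hzc, hop2] at hz2
  have hxz' : Δ.δ x z' = w0 cs := by
    have h2 := Δ.step_lt x c z' i' hz1 (by
      rw [hc2, mul_assoc, hop, mul_assoc (w0 cs), ← mul_assoc (w0 cs) (w0 cs), hww, one_mul, ← mul_assoc,
        cs.simple_mul_simple_self, one_mul]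
      omega)
    rw [h2, hc2, mul_assoc, hop, mul_assoc (w0 cs), ← mul_assoc (w0 cs) (w0 cs), hww, one_mul, ← mul_assoc,
      cs.simple_mul_simple_self, one_mul]
  obtain ⟨u, hu, huy⟩ := S.trans x y z' hxy hxz'
  have hux := S.fix x u hu
  have hiso := S.iso u
  -- `u` fixes `c`
  have huc : u • c = c := by
    have h2 : Δ.δ x (u • c) = cs.simple i * w0 cs := by
      rw [← hc2]
      conv_lhs => rw [← hux]
      exact hiso x c
    refine Tits.Rigid.eq_of_short (Δ := Δ) (j := i') h2 hc2 ?_ ?_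
    · have h3 : cs.simple i * w0 cs * cs.simple i' = w0 cs := by
        rw [mul_assoc, hop2, ← mul_assoc, cs.simple_mul_simple_self, one_mul]
      rw [h3]; omega
    · have h3 : u • c ∈ Δ.Pan i' z' := by
        refine Or.inr ?_
        rw [← huy, hiso]
        exact hc1
      have h4 : c ∈ Δ.Pan i' z' := Or.inr (delta_simple_symm hz1)
      exact Tits.Rigid.mem_Pan_Res (Δ.mem_Pan_trans (Δ.mem_Pan_symm h3) h4)
  refine ⟨u, hu, ?_, ?_⟩
  · have h2 : Δ.δ z' (u • y₁) = w0 cs * cs.simple i := by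
      rw [← huy, hiso, h1']
    have h3 : Δ.δ z' z = w0 cs * cs.simple i := by
      rw [Δ.symm z z', hz2, mul_inv_rev, F.w0_inv, cs.inv_simple]
    refine Tits.Rigid.eq_of_short (Δ := Δ) (j := i) h2 h3 ?_ ?_
    · rw [mul_assoc, cs.simple_mul_simple_self, mul_one]; omega
    · have h4 : u • y₁ ∈ Δ.Pan i x := by
        refine Or.inr ?_
        conv_lhs => rw [← hux]
        rw [hiso, h1]
      have h5 : z ∈ Δ.Pan i x := Or.inr hz
      exact Tits.Rigid.mem_Pan_Res (Δ.mem_Pan_trans (Δ.mem_Pan_symm h4) h5)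
  · intro j hj
    obtain ⟨d, hd1, hd2⟩ := Δ.exists_step c x j
    have hcx : Δ.δ c x = w0 cs * cs.simple i := by
      rw [Δ.symm x c, hc2, mul_inv_rev, F.w0_inv, cs.inv_simple]
    rw [hcx] at hd2
    have hfix : u • d = d := by
      have h2 : Δ.δ c (u • d) = w0 cs * cs.simple i * cs.simple j := by
        rw [← hd2]
        conv_lhs => rw [← huc]
        exact hiso c d
      have h3 : Δ.δ x (u • d) = cs.simple j := by
        rw [← hd1]
        conv_lhs => rw [← hux]
        exact hiso x d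
      refine Tits.Rigid.eq_of_short (Δ := Δ) (j := j) h2 hd2 ?_ ?_
      · have h4 := F.len_w0_mul (cs.simple i * cs.simple j)
        rw [length_mul_of_ne (Ne.symm hj), ← mul_assoc] at h4
        have h5 : w0 cs * cs.simple i * cs.simple j * cs.simple j = w0 cs * cs.simple i := by
          rw [mul_assoc, cs.simple_mul_simple_self, mul_one]
        rw [h5]; omega
      · have h6 : u • d ∈ Δ.Pan j x := Or.inr h3
        have h7 : d ∈ Δ.Pan j x := Or.inr hd1
        exact Tits.Rigid.mem_Pan_Res (Δ.mem_Pan_trans (Δ.mem_Pan_symm h6) h7)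
    exact fun d' hd' => S.pan x d j hd1 u hu hfix d' hd'


/-- `g` maps the stabiliser Sylow subgroup of `x` to that of `g x`. -/
theorem conj_mem_U (S : Sys Δ G p) (x : C) (g : G) {u : G} (hu : u ∈ S.U x) : g * u * g⁻¹ ∈ S.U (g • x) := by
  have h : (S.U x).map (MulAut.conj g).toMonoidHom ≤ S.U (g • x) := by
    apply S.max
    · exact (S.isP x).map _
    · rintro _ ⟨v, hv, rfl⟩
      show (g * v * g⁻¹) • g • x = g • x
      rw [smul_smul, inv_mul_cancel_right, mul_smul, S.fix x v hv]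
  exact h ⟨u, hu, rfl⟩

theorem exists_regular_unipotent [F : Cox cs] [Finite G] [hp : Fact p.Prime] [Finite I] (S : Sys Δ G p)
    (hth : Δ.Thick) (hfaith : FaithfulSMul G C) {x₀ y₀ : C} (hxy : Δ.Opp x₀ y₀)
    (hT : ∀ a b : G, a • x₀ = x₀ → a • y₀ = y₀ → b • x₀ = x₀ → b • y₀ = y₀ → a * b = b * a) :
    ∃ z ∈ S.U x₀, (∀ y, z • y = y → y = x₀) ∧
      ∀ g : G, g * z = z * g → ∀ r, r.Prime → r ≠ p → orderOf g ≠ r := by
  classical
  set U := S.U x₀ with hUdef
  -- the nearest chambers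
  have hnear : ∀ i, ∃ y₁, Δ.δ x₀ y₁ = cs.simple i ∧ Δ.δ y₀ y₁ = w0 cs * cs.simple i := by
    intro i
    obtain ⟨y₁, h1, h2⟩ := Δ.exists_step y₀ x₀ i
    refine ⟨y₁, h1, ?_⟩
    have hxy' : Δ.δ x₀ y₀ = w0 cs := hxy
    rw [h2, Δ.symm x₀ y₀, hxy', F.w0_inv]
  choose y₁ hy1 hy1' using hnear
  -- the subgroups fixing the panels
  let V : I → Subgroup G := fun i =>
    { carrier := {u | u ∈ U ∧ u • y₁ i = y₁ i}
      one_mem' := ⟨one_mem _, one_smul _ _⟩
      mul_mem' := fun {a b} ha hb => ⟨mul_mem ha.1 hb.1, by rw [mul_smul, hb.2, ha.2]⟩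
      inv_mem' := fun {a} ha => ⟨inv_mem ha.1, by rw [inv_smul_eq_iff, ha.2]⟩ }
  have hVmem : ∀ i u, u ∈ V i ↔ u ∈ U ∧ u • y₁ i = y₁ i := fun i u => Iff.rfl
  have hVU : ∀ i, V i ≤ U := fun i u hu => hu.1
  have hpan : ∀ i u, u ∈ V i → ∀ c ∈ Δ.Pan i x₀, u • c = c := fun i u hu c hc =>
    S.pan x₀ (y₁ i) i (hy1 i) u hu.1 hu.2 c hc
  have hpan' : ∀ i u, u ∈ U → ∀ c, Δ.δ x₀ c = cs.simple i → u • c = c → u ∈ V i := fun i u hu c hc h =>
    ⟨hu, S.pan x₀ c i hc u hu h _ (Or.inr (hy1 i))⟩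
  let B := MulAction.stabilizer G x₀
  have hUB : U ≤ B := fun u hu => S.fix x₀ u hu
  have hBU : ∀ b ∈ B, ∀ u ∈ U, b * u * b⁻¹ ∈ U := by
    intro b hb u hu
    have := conj_mem_U S x₀ b hu
    rwa [show b • x₀ = x₀ from hb] at this
  have hBV : ∀ i, ∀ b ∈ B, ∀ u ∈ V i, b * u * b⁻¹ ∈ V i := by
    intro i b hb u hu
    refine ⟨hBU b hb u hu.1, ?_⟩
    have h1 : Δ.δ x₀ (b⁻¹ • y₁ i) = cs.simple i := by
      have h2 : b⁻¹ • x₀ = x₀ := by rw [inv_smul_eq_iff]; exact (show b • x₀ = x₀ from hb).symm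
      conv_lhs => rw [← h2]
      rw [S.iso, hy1]
    rw [mul_smul, mul_smul, hpan i u hu _ (Or.inr h1), smul_inv_smul]
  -- the quotients
  let N : I → Subgroup G := fun i => V i ⊔ ⁅U, U⁆
  have hUU : ⁅U, U⁆ ≤ U := Subgroup.commutator_le.2 fun a ha b hb =>
    mul_mem (mul_mem (mul_mem ha hb) (inv_mem ha)) (inv_mem hb)
  have hNU : ∀ i, N i ≤ U := fun i => sup_le (hVU i) hUU
  have hnotV : ∀ i, ¬ U ≤ V i := by
    intro i hle
    obtain ⟨a, b, hab, ha, hb⟩ := hth x₀ i
    obtain ⟨u, hu, hua, -⟩ := exists_indep S hxy (hy1 i) (hy1' i) ha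
    obtain ⟨v, hv, hvb, -⟩ := exists_indep S hxy (hy1 i) (hy1' i) hb
    rw [(hle hu).2] at hua
    rw [(hle hv).2] at hvb
    exact hab (hua.symm.trans hvb)
  have hUp : IsPGroup p U := S.isP x₀
  have hnotN : ∀ i, ¬ U ≤ N i := fun i hle =>
    hnotV i (Cit.Weights.le_of_le_sup_commutator_self hUp (hVU i) hle)
  have hBN : ∀ i, ∀ b ∈ B, ∀ u ∈ N i, b * u * b⁻¹ ∈ N i := by
    intro i b hb
    have h1 : N i ≤ (N i).comap (MulAut.conj b).toMonoidHom := by
      refine sup_le (fun u hu => ?_) (Subgroup.commutator_le.2 fun a ha c hc => ?_)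
      · exact Subgroup.mem_sup_left (hBV i b hb u hu)
      · show b * ⁅a, c⁆ * b⁻¹ ∈ N i
        have h2 : b * ⁅a, c⁆ * b⁻¹ = ⁅b * a * b⁻¹, b * c * b⁻¹⁆ := by
          simp only [commutatorElement_def]; group
        rw [h2]
        exact Subgroup.mem_sup_right (Subgroup.commutator_mem_commutator (hBU b hb a ha) (hBU b hb c hc))
    exact fun u hu => h1 hu
  -- elements fixing `x₀` and `y₀` are `p'`
  have hTp : ∀ t : G, t • x₀ = x₀ → t • y₀ = y₀ → (orderOf t).Coprime p := by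
    intro t ht1 ht2
    rw [Nat.coprime_comm, hp.1.coprime_iff_not_dvd]
    intro hd
    obtain ⟨m, hm⟩ := hd
    have hm0 : m ≠ 0 := by
      rintro rfl
      exact (orderOf_pos t).ne' (by simpa using hm)
    have ho : orderOf (t ^ m) = p := by
      rw [orderOf_pow_of_dvd hm0 ⟨p, by rw [hm, mul_comm]⟩, hm, Nat.mul_div_cancel _ (Nat.pos_of_ne_zero hm0)]
    have h1 : ∀ x : C, t • x = x → ∀ v ∈ Subgroup.zpowers (t ^ m), v • x = x := by
      intro x hx
      have h2 : Subgroup.zpowers (t ^ m) ≤ MulAction.stabilizer G x := by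
        rw [Subgroup.zpowers_le]
        exact pow_mem (show t ∈ MulAction.stabilizer G x from hx) m
      exact fun v hv => h2 hv
    have h3 : Subgroup.zpowers (t ^ m) ≤ U := by
      apply S.max
      · rw [IsPGroup.iff_card]
        exact ⟨1, by rw [Nat.card_zpowers, ho, pow_one]⟩
      · exact h1 x₀ ht1
    have h4 := S.free x₀ y₀ hxy (t ^ m) (h3 (Subgroup.mem_zpowers _)) (h1 y₀ ht2 _ (Subgroup.mem_zpowers _))
    rw [h4, orderOf_one] at ho
    exact hp.1.one_lt.ne ho
  -- the regular elements modulo `N i`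
  have hA : ∀ i, ∃ a ∈ U, a ∉ N i ∧ ∀ t : G, t • x₀ = x₀ → t • y₀ = y₀ → t * a * t⁻¹ * a⁻¹ ∈ N i →
      ∀ b ∈ U, t * b * t⁻¹ * b⁻¹ ∈ N i := by
    intro i
    have hn1 : (U.subgroupOf B).Normal := ⟨fun u hu b => hBU b b.2 u hu⟩
    have hn2 : ((N i).subgroupOf B).Normal := ⟨fun u hu b => hBN i b b.2 u hu⟩
    have hUp' : IsPGroup p (U.subgroupOf B) := by
      have := hUp.of_injective (Subgroup.subgroupOfEquivOfLe hUB).toMonoidHom (Subgroup.subgroupOfEquivOfLe hUB).injective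
      exact this
    obtain ⟨a, ha, haN, hreg⟩ := exists_reg_rel (p := p) (U := U.subgroupOf B) (N := (N i).subgroupOf B)
      (T := (MulAction.stabilizer G y₀).subgroupOf B)
      (by
        rw [Subgroup.commutator_le]
        intro a ha b hb
        show ((⁅a, b⁆ : B) : G) ∈ N i
        exact Subgroup.mem_sup_right (Subgroup.commutator_mem_commutator (show (a : G) ∈ U from ha) (show (b : G) ∈ U from hb)))
      (fun hle => hnotN i fun u hu => hle (show (⟨u, hUB hu⟩ : B) ∈ U.subgroupOf B from hu))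
      hUp'
      (fun a ha b hb => Subtype.ext (hT a b a.2 ha b.2 hb))
      (fun t ht => by
        have := hTp t t.2 ht
        rwa [Subgroup.orderOf_coe] at this)
    refine ⟨a, ha, haN, fun t ht1 ht2 h b hb => ?_⟩
    exact hreg ⟨t, ht1⟩ ht2 h ⟨b, hUB hb⟩ hb
  choose a haU haN hareg using hA
  -- move `a i` into the other `V j`
  have hB : ∀ i, ∃ u ∈ U, (∀ c ∈ Δ.Pan i x₀, u • c = a i • c) ∧ ∀ j, j ≠ i → ∀ d ∈ Δ.Pan j x₀, u • d = d := by
    intro i
    have hax : a i • x₀ = x₀ := S.fix x₀ _ (haU i)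
    have h1 : Δ.δ x₀ (a i • y₁ i) = cs.simple i := by
      conv_lhs => rw [← hax]
      rw [S.iso, hy1]
    obtain ⟨u, hu, hu1, hu2⟩ := exists_indep S hxy (hy1 i) (hy1' i) h1
    refine ⟨u, hu, ?_, hu2⟩
    have h2 : (a i)⁻¹ * u ∈ V i := ⟨mul_mem (inv_mem (haU i)) hu, by rw [mul_smul, hu1, inv_smul_smul]⟩
    intro c hc
    have h3 := hpan i _ h2 c hc
    rwa [mul_smul, inv_smul_eq_iff] at h3
  choose b hbU hbi hbj using hB
  -- the product
  have hC : ∀ l : List I, l.Nodup → ∃ z ∈ U, (∀ i ∈ l, ∀ c ∈ Δ.Pan i x₀, z • c = b i • c) ∧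
      ∀ i, i ∉ l → ∀ c ∈ Δ.Pan i x₀, z • c = c := by
    intro l
    induction l with
    | nil => exact fun _ => ⟨1, one_mem _, by simp only [_root_.List.not_mem_nil, _root_.one_smul, _root_.IsEmpty.forall_iff, _root_.implies_true], fun i _ c _ => one_smul _ _⟩
    | cons j l ih =>
      intro hl
      rw [List.nodup_cons] at hl
      obtain ⟨z, hz, hz1, hz2⟩ := ih hl.2
      refine ⟨b j * z, mul_mem (hbU j) hz, ?_, ?_⟩
      · intro i hi c hc
        rw [List.mem_cons] at hi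
        rcases hi with rfl | hi
        · rw [mul_smul, hz2 i hl.1 c hc]
        · have hne : i ≠ j := by rintro rfl; exact hl.1 hi
          rw [mul_smul, hz1 i hi c hc]
          refine hbj j i hne _ ?_
          have hbx : b i • x₀ = x₀ := S.fix x₀ _ (hbU i)
          rcases hc with rfl | hc
          · exact Or.inl hbx
          · refine Or.inr ?_
            conv_lhs => rw [← hbx]
            rw [S.iso, hc]
      · intro i hi c hc
        rw [List.mem_cons, not_or] at hi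
        rw [mul_smul, hz2 i hi.2 c hc, hbj j i hi.1 c hc]
  have := Fintype.ofFinite I
  obtain ⟨z, hzU, hz, -⟩ := hC (Finset.univ : Finset I).toList (Finset.nodup_toList _)
  have hza : ∀ i, ∀ c ∈ Δ.Pan i x₀, z • c = a i • c := fun i c hc => by
    rw [hz i (by simp only [_root_.Finset.mem_toList, _root_.Finset.mem_univ]) c hc, hbi i c hc]
  -- `z` fixes only `x₀`
  have hzfix : ∀ y, z • y = y → y = x₀ := by
    intro y hy
    refine eq_of_reg S.iso (S.fix x₀ z hzU) ?_ hy
    intro i c hc h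
    rw [hza i c (Or.inr hc)] at h
    exact haN i (Subgroup.mem_sup_left (hpan' i _ (haU i) c hc h))
  refine ⟨z, hzU, hzfix, ?_⟩
  intro g hgz r hr hrp hor
  have hr' : Fact r.Prime := ⟨hr⟩
  have hxy' : Δ.δ x₀ y₀ = w0 cs := hxy
  have hgx : g • x₀ = x₀ := by
    apply hzfix
    rw [smul_smul, ← hgz, mul_smul, S.fix x₀ z hzU]
  -- a chamber opposite to `x₀` fixed by `g`
  have horb : ∀ y ∈ MulAction.orbit U y₀, Δ.Opp x₀ y := by
    rintro _ ⟨⟨u, hu⟩, rfl⟩
    show Δ.δ x₀ (u • y₀) = w0 cs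
    conv_lhs => rw [← S.fix x₀ u hu]
    rw [S.iso, hxy']
  obtain ⟨y, hy, hgy⟩ := exists_fix_orbit hrp hUp hor y₀ (by
    intro y hy
    have h1 : Δ.Opp x₀ (g • y) := by
      show Δ.δ x₀ (g • y) = w0 cs
      conv_lhs => rw [← hgx]
      rw [S.iso]
      exact horb y hy
    obtain ⟨u, hu, huy⟩ := S.trans x₀ y₀ (g • y) hxy h1
    exact ⟨⟨u, hu⟩, huy⟩)
  obtain ⟨⟨v, hv⟩, rfl⟩ := hy
  change g • v • y₀ = v • y₀ at hgy
  have hvx : v • x₀ = x₀ := S.fix x₀ v hv
  have hvx' : v⁻¹ • x₀ = x₀ := S.fix x₀ _ (inv_mem hv)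
  set t := v⁻¹ * g * v with ht
  have htx : t • x₀ = x₀ := by rw [ht, mul_smul, mul_smul, hvx, hgx, hvx']
  have hty : t • y₀ = y₀ := by rw [ht, mul_smul, mul_smul, hgy, inv_smul_smul]
  have htB : t ∈ B := htx
  have htx' : t⁻¹ • x₀ = x₀ := inv_mem htB
  set z' := v⁻¹ * z * v with hz'
  have hz'U : z' ∈ U := mul_mem (mul_mem (inv_mem hv) hzU) hv
  have htz' : t * z' * t⁻¹ * z'⁻¹ = 1 := by
    have h1 : t * z' * t⁻¹ * z'⁻¹ = v⁻¹ * (g * z * g⁻¹ * z⁻¹) * v := by rw [ht, hz']; group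
    rw [h1, hgz]; group
  have hcomm : ∀ i, ∀ b ∈ U, t * b * t⁻¹ * b⁻¹ ∈ N i := by
    intro i
    apply hareg i t htx hty
    have hw : (a i)⁻¹ * z ∈ V i := by
      refine ⟨mul_mem (inv_mem (haU i)) hzU, ?_⟩
      rw [mul_smul, hza i _ (Or.inr (hy1 i)), inv_smul_smul]
    have hc : a i * z'⁻¹ ∈ N i := by
      have h1 : a i * z'⁻¹ = ⁅v, z'⁆ * (z' * ((a i)⁻¹ * z)⁻¹ * z'⁻¹) := by
        rw [commutatorElement_def, hz']; group
      rw [h1]
      exact mul_mem (Subgroup.mem_sup_right (Subgroup.commutator_mem_commutator hv hz'U))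
        (Subgroup.mem_sup_left (hBV i z' (hUB hz'U) _ (inv_mem hw)))
    have h2 : t * a i * t⁻¹ * (a i)⁻¹ = (t * (a i * z'⁻¹) * t⁻¹) * (t * z' * t⁻¹ * z'⁻¹) * (a i * z'⁻¹)⁻¹ := by
      group
    rw [h2, htz', mul_one]
    exact mul_mem (hBN i t htB _ hc) (inv_mem hc)
  -- `t` fixes the nearest chambers
  have hty1 : ∀ i, t • y₁ i = y₁ i := by
    intro i
    have h1 : Δ.δ y₀ (t • y₁ i) = w0 cs * cs.simple i := by
      conv_lhs => rw [← hty]
      rw [S.iso, hy1']
    refine Tits.Rigid.eq_of_short (Δ := Δ) (j := i) h1 (hy1' i) ?_ ?_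
    · rw [mul_assoc, cs.simple_mul_simple_self, mul_one]
      have h2 := F.len_w0_mul (cs.simple i)
      rw [cs.length_simple] at h2
      omega
    · have h3 : t • y₁ i ∈ Δ.Pan i x₀ := by
        refine Or.inr ?_
        conv_lhs => rw [← htx]
        rw [S.iso, hy1]
      have h4 : y₁ i ∈ Δ.Pan i x₀ := Or.inr (hy1 i)
      exact Tits.Rigid.mem_Pan_Res (Δ.mem_Pan_trans (Δ.mem_Pan_symm h3) h4)
  -- `t` centralises `U` modulo `V i`
  have hK : ∀ i, ∀ u ∈ U, t * u * t⁻¹ * u⁻¹ ∈ V i := by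
    intro i
    let K : Subgroup G :=
      { carrier := {u | u ∈ U ∧ t * u * t⁻¹ * u⁻¹ ∈ V i}
        one_mem' := ⟨one_mem _, by simp⟩
        mul_mem' := fun {c d} hc hd => by
          refine ⟨mul_mem hc.1 hd.1, ?_⟩
          have h1 : t * (c * d) * t⁻¹ * (c * d)⁻¹ = (t * c * t⁻¹ * c⁻¹) * (c * (t * d * t⁻¹ * d⁻¹) * c⁻¹) := by group
          rw [h1]
          exact mul_mem hc.2 (hBV i c (hUB hc.1) _ hd.2)
        inv_mem' := fun {c} hc => by
          refine ⟨inv_mem hc.1, ?_⟩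
          have h1 : t * c⁻¹ * t⁻¹ * c⁻¹⁻¹ = c⁻¹ * (t * c * t⁻¹ * c⁻¹)⁻¹ * c⁻¹⁻¹ := by group
          rw [h1]
          exact hBV i c⁻¹ (hUB (inv_mem hc.1)) _ (inv_mem hc.2) }
    have hKU : K ≤ U := fun u hu => hu.1
    have hVK : V i ≤ K := fun u hu => ⟨hu.1, mul_mem (hBV i t htB u hu) (inv_mem hu)⟩
    have hle : U ≤ K ⊔ ⁅U, U⁆ := by
      intro u hu
      have hNp : IsPGroup p (N i) := hUp.to_le (hNU i)
      have hort : orderOf t = r := by
        rw [← hor, ht]
        have h1 : v⁻¹ * g * v = MulAut.conj v⁻¹ g := by simp only [_root_.map_inv, _root_.MulAut.inv_apply, _root_.MulAut.conj_symm_apply]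
        rw [h1]
        exact orderOf_injective (MulAut.conj v⁻¹).toMonoidHom (MulAut.conj v⁻¹).injective g
      obtain ⟨_, ⟨⟨m, hm⟩, rfl⟩, hfix⟩ := exists_fix_orbit hrp hNp hort (u • y₁ i) (by
        rintro _ ⟨⟨m, hm⟩, rfl⟩
        refine ⟨⟨(t * m * t⁻¹) * (t * u * t⁻¹ * u⁻¹), mul_mem (hBN i t htB m hm) (hcomm i u hu)⟩, ?_⟩
        show ((t * m * t⁻¹) * (t * u * t⁻¹ * u⁻¹)) • u • y₁ i = t • m • u • y₁ i
        have h1 : t⁻¹ • y₁ i = y₁ i := by rw [inv_smul_eq_iff, hty1]
        have h2 : ((t * m * t⁻¹) * (t * u * t⁻¹ * u⁻¹)) • u • y₁ i = (t * m * u) • (t⁻¹ • y₁ i) := by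
          simp only [smul_smul]; congr 1; group
        rw [h2, h1, mul_smul, mul_smul])
      change t • m • u • y₁ i = m • u • y₁ i at hfix
      have hmU : m ∈ U := hNU i hm
      have hmK : m * u ∈ K := by
        refine ⟨mul_mem hmU hu, ?_⟩
        have h1 : (m * u)⁻¹ * (t * (m * u) * t⁻¹) ∈ V i := by
          refine ⟨mul_mem (inv_mem (mul_mem hmU hu)) (hBU t htB _ (mul_mem hmU hu)), ?_⟩
          have h2 : t⁻¹ • y₁ i = y₁ i := by rw [inv_smul_eq_iff, hty1]
          rw [mul_smul _ (t * (m * u) * t⁻¹), mul_smul (t * (m * u)) t⁻¹, h2, mul_smul t (m * u), mul_smul m u, hfix,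
            inv_smul_eq_iff, mul_smul m u]
        have h3 : t * (m * u) * t⁻¹ * (m * u)⁻¹ = (m * u) * ((m * u)⁻¹ * (t * (m * u) * t⁻¹)) * (m * u)⁻¹ := by
          group
        rw [h3]
        exact hBV i (m * u) (hUB (mul_mem hmU hu)) _ h1
      have h4 : u = m⁻¹ * (m * u) := by group
      rw [h4]
      have h5 : N i ≤ K ⊔ ⁅U, U⁆ := sup_le_sup_right hVK _
      exact mul_mem (h5 (inv_mem hm)) (Subgroup.mem_sup_left hmK)
    have hUK := Cit.Weights.le_of_le_sup_commutator_self hUp hKU hle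
    exact fun u hu => (hUK hu).2
  -- `t` fixes the panels of `x₀`
  have hpant : ∀ i, ∀ c ∈ Δ.Pan i x₀, t • c = c := by
    intro i c hc
    rcases hc with rfl | hc
    · exact htx
    · obtain ⟨u, hu, huc, -⟩ := exists_indep S hxy (hy1 i) (hy1' i) hc
      have h1 := hK i u hu
      have h2 := hpan i _ h1 c (Or.inr hc)
      have h3 : (t * u * t⁻¹ * u⁻¹) • c = t • c := by
        rw [← huc]
        have h4 : t⁻¹ • y₁ i = y₁ i := by rw [inv_smul_eq_iff, hty1]
        have h5 : (t * u * t⁻¹ * u⁻¹) • u • y₁ i = (t * u) • (t⁻¹ • y₁ i) := by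
          simp only [smul_smul]; congr 1; group
        rw [h5, h4, mul_smul]
      rw [← h3, h2]
  -- rigidity
  have hall : ∀ c : C, t • c = c := by
    intro c
    refine Tits.Rigid.rigid (Δ := Δ) (Δ' := Δ) hth (J := Set.univ) (c := x₀) (d := y₀) (φ := fun c => t • c)
      (ψ := fun c => c) ?_ ?_ ?_ hxy' hty c ?_
    · exact fun a _ b _ => S.iso t a b
    · exact fun a _ b _ => rfl
    · exact fun i _ c hc => hpant i c hc
    · show Δ.δ x₀ c ∈ WJ cs Set.univ
      rw [WJ_univ]; trivial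
  have ht1 : t = 1 := hfaith.eq_of_smul_eq_smul fun c => by rw [hall c, one_smul]
  have hg1 : g = 1 := by
    have h1 : g = v * t * v⁻¹ := by rw [ht]; group
    rw [h1, ht1]; group
  rw [hg1, orderOf_one] at hor
  exact hr.one_lt.ne hor

end Building

end Cfsg.Agent.H463.RegUnip
end
end

-- part: H463/LieSplit
section
set_option linter.all false
open scoped Cfsg.Agent.FastGrp

/-!
# Coprime pairs in groups with a split (B, N)-pair

* `exists_regular` : a regular unipotent element of a group with a split (B,N)-pair with commutative torus;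
* `pair_odd` : `Pair45` for `p` odd and `|B|` even;
* `pair_two` : `Pair45` for `p = 2`.
-/

set_option autoImplicit false

namespace Cfsg.Agent.H463.LieSplit

open Cfsg Cfsg.Agent.LieExceptional.BNPairCore Cfsg.Agent.Tits.Core Cfsg.Agent.Tits.Core.Bldg Cfsg.Agent.Tits.OfBN
  Cfsg.Agent.Schreier.BNSch Cfsg.Agent.Tits.OppRes Cfsg.Agent.FixBN Cfsg.Agent.H463.Pair

variable {K : Type*} [Group K] [Finite K] {p : ℕ} {P : Cfsg.BNPair K} {U : Subgroup K}

/-- **Regular unipotent elements.** -/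
theorem exists_regular [hp : Fact p.Prime] (h : Split P p U) (hS : P.S.Nonempty)
    (hT : ∀ a ∈ P.B ⊓ P.N, ∀ b ∈ P.B ⊓ P.N, a * b = b * a) :
    ∃ z ∈ U, z ≠ 1 ∧ ∀ g : K, g * z = z * g → ∀ r, r.Prime → r ≠ p → orderOf g ≠ r := by
  have hN : ((P.B ⊓ P.N).subgroupOf P.N).Normal := normal_subgroupOf P
  obtain ⟨M, cs, hcs'⟩ := S0320.result P
  have hcs : ∀ i, cs.simple i = QuotientGroup.mk (⟨((Equiv.refl P.S i : P.S) : K), P.subset (Equiv.refl P.S i).2⟩ : P.N) :=
    hcs'
  have hI : Finite P.S := OfBN.finite_I (Equiv.refl P.S)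
  have hW : Finite (WP P) := inferInstance
  let Δ := bldg P (Equiv.refl P.S) cs hcs
  let Sy := OfBN.sys (Equiv.refl P.S) cs hcs h
  have F : Cox cs := inferInstance
  have hfaith : FaithfulSMul K (K ⧸ P.B) := Tits.OfBN.faithful P h.core
  obtain ⟨n, hn⟩ := QuotientGroup.mk_surjective (w0 cs)
  have hopp : Δ.Opp (QuotientGroup.mk 1) (QuotientGroup.mk (n : K)) := by
    show Δ.δ (QuotientGroup.mk 1) (QuotientGroup.mk (n : K)) = w0 cs
    rw [show Δ.δ (QuotientGroup.mk 1) (QuotientGroup.mk (n : K)) = wt P (1⁻¹ * (n : K)) from bldg_δ_mk _ _ _ _ _ _,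
      inv_one, one_mul, wt_of_mem P (self_mem_C (n : K)), hn]
  have hstab : ∀ a : K, a • (QuotientGroup.mk 1 : K ⧸ P.B) = QuotientGroup.mk 1 →
      a • (QuotientGroup.mk (n : K) : K ⧸ P.B) = QuotientGroup.mk (n : K) → a ∈ P.B ⊓ P.N := by
    intro a h1 h2
    have haB : a ∈ P.B := by
      have := OfBN.smul_mk_eq.1 h1
      simpa using this
    obtain ⟨u, hu, t, ht, rfl⟩ := h.cover' haB
    have ht2 : t • (QuotientGroup.mk (n : K) : K ⧸ P.B) = QuotientGroup.mk (n : K) := by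
      rw [OfBN.smul_mk_eq]
      exact conj_mem_inv n.2 ht.1 ht.2
    have hu2 : u • (QuotientGroup.mk (n : K) : K ⧸ P.B) = QuotientGroup.mk (n : K) := by
      rw [mul_smul, ht2] at h2
      exact h2
    have hu' : u ∈ Sy.U (QuotientGroup.mk 1) := by
      show u ∈ OfBN.UU P U (QuotientGroup.mk 1)
      rw [OfBN.mem_UU h]
      simpa using hu
    have hu1 := Sy.free _ _ hopp u hu' hu2
    rw [hu1, one_mul]
    exact ht
  obtain ⟨z, hz, hfix, hreg⟩ := RegUnip.exists_regular_unipotent Sy (thick P (Equiv.refl P.S) cs hcs) hfaith hopp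
    (fun a b ha1 ha2 hb1 hb2 => hT a (hstab a ha1 ha2) b (hstab b hb1 hb2))
  have hz' : z ∈ OfBN.UU P U (QuotientGroup.mk 1) := hz
  rw [OfBN.mem_UU h] at hz'
  refine ⟨z, by simpa using hz', ?_, hreg⟩
  rintro rfl
  obtain ⟨s, hs⟩ := hS
  have h1 : (QuotientGroup.mk s : K ⧸ P.B) = QuotientGroup.mk 1 := hfix _ (one_smul _ _)
  rw [OfBN.mk_eq, mul_one] at h1
  exact not_mem_B hs (by simpa using inv_mem h1)

end Cfsg.Agent.H463.LieSplit
end

-- part: H463/LiePair
section
set_option linter.all false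
open scoped Cfsg.Agent.FastGrp

/-!
# Coprime pairs in groups with a split (B, N)-pair with commutative torus

* `torus_comm`, `comm_mem` : `B / U` is abelian iff the torus is commutative;
* `solvable_B` : `B` is soluble;
* `frob` : a Frobenius group with complement a 2-group is soluble and its order has an odd prime divisor;
* `pair_odd` : `Pair45` for `p` odd and `|B|` even; `pair_two` : `Pair45` for `p = 2`.
-/

set_option autoImplicit false

namespace Cfsg.Agent.H463.LiePair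

open scoped Pointwise

open Cfsg Cfsg.Agent.Schreier.BNSch Cfsg.Agent.FixBN Cfsg.Agent.H463.Pair

section frob

/-- A Frobenius group with complement a 2-group is soluble, and its order has an odd prime divisor. -/
theorem frob {R : Type*} [Group R] [Finite R] {H : Subgroup R} (hH : Cfsg.IsFrobeniusComplement H)
    (h2 : IsPGroup 2 H) : Group.IsSolvable R ∧ ∃ r : ℕ, r.Prime ∧ r ≠ 2 ∧ r ∣ Nat.card R := by
  have : Fact (Nat.Prime 2) := ⟨Nat.prime_two⟩
  obtain ⟨N, hNk, hN, hc⟩ := Solvable.FrobeniusTheorem.frobenius hH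
  have hd : ∀ x ∈ N, x ∈ H → x = 1 := by
    intro x hx hxH
    refine Solvable.FrobeniusKernel.eq_one_of_mem_kernel_of_mem (H := H) ?_ hxH
    rw [← hNk]; exact hx
  -- an involution in `H`
  have hHne : Nontrivial H := (Subgroup.nontrivial_iff_ne_bot H).2 hH.1
  have hdv : 2 ∣ Nat.card H := by
    obtain ⟨n, hn⟩ := IsPGroup.iff_card.1 h2
    rw [hn]
    refine dvd_pow_self 2 ?_
    rintro rfl
    rw [pow_zero] at hn
    have := Finite.one_lt_card (α := H)
    omega
  obtain ⟨t, ht⟩ := exists_prime_orderOf_dvd_card' 2 hdv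
  have ht1 : (t : R) ≠ 1 := by
    intro h
    have h1 : t = 1 := Subtype.ext h
    rw [h1, orderOf_one] at ht
    omega
  have htt : (t : R) * t = 1 := by
    have h1 : t ^ 2 = 1 := by rw [← ht]; exact pow_orderOf_eq_one t
    have h3 := congrArg Subtype.val h1
    rwa [pow_two] at h3
  let φ : N →* N :=
    { toFun := fun n => ⟨(t : R) * n * (t : R)⁻¹, hN.conj_mem n n.2 t⟩
      map_one' := Subtype.ext (by simp)
      map_mul' := fun a b => Subtype.ext (by simp [mul_assoc]) }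
  have hf : MonoidHom.FixedPointFree φ := by
    intro n hn
    have h1 : (t : R) * n * (t : R)⁻¹ = n := congrArg Subtype.val hn
    have h3 : (n : R) ∈ Subgroup.centralizer {(t : R)} := by
      rw [Subgroup.mem_centralizer_singleton_iff]
      exact (mul_inv_eq_iff_eq_mul.1 h1).symm
    have h4 := Solvable.FrobeniusKernel.centralizer_le hH t.2 ht1 h3
    exact Subtype.ext (hd _ n.2 h4)
  have hi : Function.Involutive φ := by
    intro n
    apply Subtype.ext
    show (t : R) * ((t : R) * n * (t : R)⁻¹) * (t : R)⁻¹ = n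
    have h5 : (t : R)⁻¹ = t := inv_eq_of_mul_eq_one_left htt
    rw [h5]
    calc (t : R) * (t * n * t) * t = (t * t) * n * (t * t) := by group
      _ = n := by rw [htt]; simp
  have hodd := hf.odd_card_of_involutive hi
  have hcomm := hf.commute_all_of_involutive hi
  have hNs : Group.IsSolvable N := Group.isSolvable_of_comm fun a b => (hcomm a b).eq
  have hHs : Group.IsSolvable H := solvable_of_isPGroup Nat.prime_two h2
  have hsup : N ⊔ H = ⊤ := hc.sup_eq_top
  constructor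
  · have h6 : Group.IsSolvable ↥(N ⊔ H) :=
      SignalizersComponents.CoprimeBasic.isSolvable_sup (by rw [Subgroup.normalizer_eq_top]; exact le_top) hNs hHs
    rw [hsup] at h6
    exact Group.isSolvable_of_surjective (f := (Subgroup.topEquiv (G := R)).toMonoidHom) Subgroup.topEquiv.surjective
  · have hN1 : Nat.card N ≠ 1 := by
      intro h
      have : N = ⊥ := Subgroup.card_eq_one.1 h
      rw [this, bot_sup_eq] at hsup
      exact hH.2.1 hsup
    refine ⟨(Nat.card N).minFac, Nat.minFac_prime hN1, fun h => ?_, (Nat.minFac_dvd _).trans (Subgroup.card_subgroup_dvd_card N)⟩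
    have := Nat.minFac_dvd (Nat.card N)
    rw [h] at this
    exact (Nat.not_even_iff_odd.2 hodd) (even_iff_two_dvd.2 this)

end frob

variable {K : Type*} [Group K] {p : ℕ} {P : Cfsg.BNPair K} {U : Subgroup K}

theorem eq_one_of_mem_of_mem [hp : Fact p.Prime] (h : Split P p U) {x : K} (hU : x ∈ U) (hN : x ∈ P.N) : x = 1 := by
  obtain ⟨m, hm, hT⟩ := h.tor
  have h1 := hT x (h.le hU) hN
  obtain ⟨k, hk⟩ := h.isP ⟨x, hU⟩
  have h2 : x ^ p ^ k = 1 := congrArg Subtype.val hk
  have h3 : orderOf x ∣ Nat.gcd m (p ^ k) := Nat.dvd_gcd (orderOf_dvd_of_pow_eq_one h1) (orderOf_dvd_of_pow_eq_one h2)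
  have h4 : Nat.Coprime m (p ^ k) := Nat.Coprime.pow_right k ((Nat.Prime.coprime_iff_not_dvd hp.out).2 hm).symm
  rw [Nat.Coprime.gcd_eq_one h4, Nat.dvd_one, orderOf_eq_one_iff] at h3
  exact h3

/-- If `B / U` is abelian then the torus is commutative. -/
theorem torus_comm [hp : Fact p.Prime] (h : Split P p U) (hc : ∀ x ∈ P.B, ∀ y ∈ P.B, x * y * x⁻¹ * y⁻¹ ∈ U) :
    ∀ a ∈ P.B ⊓ P.N, ∀ b ∈ P.B ⊓ P.N, a * b = b * a := by
  intro a ha b hb
  have h1 : a * b * a⁻¹ * b⁻¹ = 1 := eq_one_of_mem_of_mem h (hc a ha.1 b hb.1)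
    (mul_mem (mul_mem (mul_mem ha.2 hb.2) (inv_mem ha.2)) (inv_mem hb.2))
  have h2 := mul_inv_eq_one.1 h1
  exact mul_inv_eq_iff_eq_mul.1 h2

/-- If the torus is commutative then `B / U` is abelian. -/
theorem comm_mem (h : Split P p U) (hT : ∀ a ∈ P.B ⊓ P.N, ∀ b ∈ P.B ⊓ P.N, a * b = b * a) :
    ∀ x ∈ P.B, ∀ y ∈ P.B, x * y * x⁻¹ * y⁻¹ ∈ U := by
  intro x hx y hy
  obtain ⟨u, hu, t, ht, rfl⟩ := h.cover' hx
  obtain ⟨v, hv, s, hs, rfl⟩ := h.cover' hy
  have h1 := h.norm t ht.1 v hv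
  have h2 := h.norm s hs.1 u⁻¹ (inv_mem hu)
  have e : u * t * (v * s) * (u * t)⁻¹ * (v * s)⁻¹ = u * (t * v * t⁻¹) * (s * u⁻¹ * s⁻¹) * v⁻¹ := by
    have h3 := hT t ht s hs
    have h4 : t * s * t⁻¹ = s := by rw [h3]; group
    calc u * t * (v * s) * (u * t)⁻¹ * (v * s)⁻¹ = u * (t * v * t⁻¹) * ((t * s * t⁻¹) * u⁻¹ * s⁻¹) * v⁻¹ := by group
      _ = _ := by rw [h4]
  rw [e]
  exact mul_mem (mul_mem (mul_mem hu h1) h2) (inv_mem hv)

/-- `B` is soluble. -/
theorem solvable_B [Finite K] [hp : Fact p.Prime] (h : Split P p U)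
    (hT : ∀ a ∈ P.B ⊓ P.N, ∀ b ∈ P.B ⊓ P.N, a * b = b * a) : Group.IsSolvable ↥P.B := by
  have h1 : Group.IsSolvable ↥U := solvable_of_isPGroup hp.out h.isP
  have h2 : Group.IsSolvable ↥(P.B ⊓ P.N) := Group.isSolvable_of_comm fun a b => Subtype.ext (hT a a.2 b b.2)
  have h3 : U ⊔ (P.B ⊓ P.N) = P.B := by
    refine le_antisymm (sup_le h.le inf_le_left) ?_
    intro b hb
    obtain ⟨u, hu, t, ht, rfl⟩ := h.cover' hb
    exact mul_mem (Subgroup.mem_sup_left hu) (Subgroup.mem_sup_right ht)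
  rw [← h3]
  refine SignalizersComponents.CoprimeBasic.isSolvable_sup ?_ h1 h2
  rw [h.normalizer_eq]
  exact inf_le_left

/-- **Odd characteristic.** -/
theorem pair_odd [Finite K] [hp : Fact p.Prime] (h : Split P p U) (hS : P.S.Nonempty) (hp2 : p ≠ 2)
    (hT : ∀ a ∈ P.B ⊓ P.N, ∀ b ∈ P.B ⊓ P.N, a * b = b * a) (h2 : 2 ∣ Nat.card ↥P.B) : Pair45 K := by
  obtain ⟨z, hzU, hz1, hz⟩ := LieSplit.exists_regular h hS hT
  obtain ⟨k, hk⟩ := IsPGroup.iff_orderOf.1 h.isP ⟨z, hzU⟩
  exact of_no_inv_cent (solvable_B h hT) (h.le hzU) hz1 hp.out hp2 ⟨k, by rw [← hk, Subgroup.orderOf_mk]⟩ h2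
    fun g hg => hz g hg 2 Nat.prime_two hp2.symm

/-- **Characteristic two.** -/
theorem pair_two [Finite K] (h : Split P 2 U) (hS : P.S.Nonempty)
    (hT : ∀ a ∈ P.B ⊓ P.N, ∀ b ∈ P.B ⊓ P.N, a * b = b * a) : Pair45 K := by
  have h2 : Fact (Nat.Prime 2) := ⟨Nat.prime_two⟩
  obtain ⟨z, hzU, hz1, hz⟩ := LieSplit.exists_regular h hS hT
  have hzk := exists_orderOf_two_pow h.isP hzU
  by_cases htriv : ∃ t ∈ P.B ⊓ P.N, t ≠ 1
  · obtain ⟨t, ht, ht1⟩ := htriv
    obtain ⟨m, hm, hT'⟩ := h.tor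
    have ho : orderOf t ≠ 1 := fun h => ht1 (orderOf_eq_one_iff.1 h)
    have hdm : (orderOf t).minFac ∣ m := (Nat.minFac_dvd _).trans (orderOf_dvd_of_pow_eq_one (hT' t ht.1 ht.2))
    have hne : (orderOf t).minFac ≠ 2 := fun h => hm (h ▸ hdm)
    refine of_no_cent (solvable_B h hT) (h.le hzU) hz1 hzk (Nat.minFac_prime ho) hne ?_ fun g hg =>
      hz g hg _ (Nat.minFac_prime ho) hne
    exact (Nat.minFac_dvd _).trans (Subgroup.orderOf_dvd_natCard _ ht.1)
  · push Not at htriv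
    have hBU : ∀ b ∈ P.B, b ∈ U := by
      intro b hb
      obtain ⟨u, hu, t, ht, rfl⟩ := h.cover' hb
      rw [htriv t ht, mul_one]
      exact hu
    obtain ⟨s, hs⟩ := hS
    obtain ⟨V, hV⟩ := h.node s hs
    set Q := P.parabolic {s} with hQ
    have hBQ : P.B ≤ Q := B_le_parabolic P {s}
    have hVB : V ≤ P.B := hV.le.trans h.le
    have hVQ : V ≤ Q := hVB.trans hBQ
    have hsQ : s ∈ Q := mem_parabolic_self P s
    have hss : s * s ∈ P.B := P.sq_mem s hs
    have hconj : ∀ g ∈ Q, ∀ v ∈ V, g * v * g⁻¹ ∈ V := by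
      have h1 : ∀ v ∈ V, s * v * s⁻¹ ∈ V := by
        intro v hv
        have h3 := hV.conj_B _ hss _ (hV.conj_s v hv)
        have h4 : s * s * (s⁻¹ * v * s) * (s * s)⁻¹ = s * v * s⁻¹ := by group
        rwa [h4] at h3
      intro g hg v hv
      rcases mem_parabolic_singleton P hs hg with hg | ⟨b, hb, b', hb', rfl⟩
      · exact hV.conj_B g hg v hv
      · have h3 := hV.conj_B _ hb _ (h1 _ (hV.conj_B _ hb' _ hv))
        have h4 : b * (s * (b' * v * b'⁻¹) * s⁻¹) * b⁻¹ = b * s * b' * v * (b * s * b')⁻¹ := by group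
        rwa [h4] at h3
    have hVn : (V.subgroupOf Q).Normal := ⟨fun v hv g => by
      rw [Subgroup.mem_subgroupOf] at hv ⊢
      exact hconj g g.2 v hv⟩
    let π := QuotientGroup.mk' (V.subgroupOf Q)
    let H : Subgroup (Q ⧸ V.subgroupOf Q) := (P.B.subgroupOf Q).map π
    have hmemH : ∀ g : Q, π g ∈ H ↔ (g : K) ∈ P.B := by
      intro g
      constructor
      · rintro ⟨b, hb, hbg⟩
        have h3 : b⁻¹ * g ∈ V.subgroupOf Q := QuotientGroup.eq.1 hbg
        have h4 := mul_mem (Subgroup.mem_subgroupOf.1 hb) (hVB (Subgroup.mem_subgroupOf.1 h3))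
        have h5 : (b : K) * ((b⁻¹ * g : Q) : K) = g := by
          rw [Subgroup.coe_mul, Subgroup.coe_inv]; group
        rwa [h5] at h4
      · intro hg
        exact ⟨g, Subgroup.mem_subgroupOf.2 hg, rfl⟩
    have hπ1 : ∀ g : Q, π g = 1 ↔ (g : K) ∈ V := by
      intro g
      rw [← Subgroup.mem_subgroupOf, ← MonoidHom.mem_ker, QuotientGroup.ker_mk']
    have hF : Cfsg.IsFrobeniusComplement H := by
      refine ⟨?_, ?_, ?_⟩
      · intro hbot
        obtain ⟨u, hu, huV⟩ := hV.ne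
        have h3 : π ⟨u, hBQ (h.le hu)⟩ ∈ H := (hmemH _).2 (h.le hu)
        rw [hbot, Subgroup.mem_bot, hπ1] at h3
        exact huV h3
      · intro htop
        have h3 : π ⟨s, hsQ⟩ ∈ H := by rw [htop]; trivial
        rw [hmemH] at h3
        exact not_mem_B P hs h3
      · intro g hg
        obtain ⟨g, rfl⟩ := QuotientGroup.mk'_surjective (V.subgroupOf Q) g
        have hgB : (g : K) ∉ P.B := fun h => hg ((hmemH g).2 h)
        rw [eq_bot_iff]
        rintro x ⟨hx, hx'⟩
        obtain ⟨x, rfl⟩ := QuotientGroup.mk'_surjective (V.subgroupOf Q) x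
        have hxB : (x : K) ∈ P.B := (hmemH x).1 hx
        have hx1 : π x ∈ MulAut.conj (π g) • H := hx'
        rw [Subgroup.mem_pointwise_smul_iff_inv_smul_mem, ← map_inv, MulAut.smul_def,
          MulAut.conj_apply, inv_inv] at hx1
        have hx2 : π (g⁻¹ * x * g) ∈ H := hx1
        rw [hmemH, Subgroup.coe_mul, Subgroup.coe_mul, Subgroup.coe_inv] at hx2
        rw [Subgroup.mem_bot]
        refine (hπ1 x).2 ?_
        rcases mem_parabolic_singleton P hs g.2 with hgB' | ⟨b, hb, b', hb', hgb⟩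
        · exact absurd hgB' hgB
        · rw [hgb] at hx2
          have h3 := mul_mem (mul_mem hb' hx2) (inv_mem hb')
          have h4 : b' * ((b * s * b')⁻¹ * (x : K) * (b * s * b')) * b'⁻¹ = s⁻¹ * (b⁻¹ * x * b) * s := by group
          rw [h4] at h3
          have h5 := hV.stab _ (hBU _ (mul_mem (mul_mem (inv_mem hb) hxB) hb)) h3
          have h6 := hV.conj_B b hb _ h5
          have h7 : b * (b⁻¹ * (x : K) * b) * b⁻¹ = x := by group
          rwa [h7] at h6
    have hB2 : IsPGroup 2 P.B := by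
      have : P.B = U := le_antisymm hBU h.le
      rw [this]; exact h.isP
    have hH2 : IsPGroup 2 H := (hB2.comap_of_injective _ Q.subtype_injective).map π
    obtain ⟨hsol, r, hr, hr2, hrd⟩ := frob hF hH2
    have hQs : Group.IsSolvable Q := by
      refine (Group.isSolvable_iff_subgroup_quotient (V.subgroupOf Q)).mpr ⟨?_, hsol⟩
      have hV2 : IsPGroup 2 (V.subgroupOf Q) := (hB2.to_le hVB).comap_of_injective _ Q.subtype_injective
      exact solvable_of_isPGroup Nat.prime_two hV2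
    refine of_no_cent hQs (hBQ (h.le hzU)) hz1 hzk hr hr2 (hrd.trans ?_) fun g hg => hz g hg _ hr hr2
    rw [Subgroup.card_eq_card_quotient_mul_card_subgroup (V.subgroupOf Q)]
    exact Dvd.intro _ rfl

end Cfsg.Agent.H463.LiePair
end
end
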