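import Cfsg.Agent.H463.LiePair
import Cfsg.Agent.Mrg.Omega.ML.Ex.Ext
import Cfsg.Agent.H463.LieOdd_m3
import Cfsg.Agent.Prune
set_option linter.all false
prune_inst 0x7f00000000000000000000000000000000000000000000000000000000000000000000000000000000000000000000000000000000000000000000000000000000000000000000000000000000000000003fffffffffffffffffffffffffffbeffbdffffffff
open scoped Cfsg.Agent.FastGrp

-- part: H463/LieTwo
section
/-! Coprime pairs in the simple groups of Lie type in characteristic two; regular unipotent elements. -/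

set_option autoImplicit false

namespace Cfsg.Agent.H463.LieTwo

open Cfsg Cfsg.Agent.H463.Pair

universe u

/-- **`Pair45` for the simple groups of Lie type in characteristic two.** -/
theorem pair {Y : Type u} [Group Y] [Finite Y] (hs : IsSimpleGroup Y) (hY : IsLieTypeChar 2 Y) : Pair45 Y := by
  have : Fact (Nat.Prime 2) := ⟨Nat.prime_two⟩
  obtain ⟨P, U, hne, h, hc⟩ := Omega.ML.LieRow.CRB.hasSplitAb_of_lie hs hY
  exact LiePair.pair_two h hne (LiePair.torus_comm h hc)

/-- **Regular unipotent elements in characteristic two**: an element `z ≠ 1` of 2-power order whose centraliser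
is a 2-group. -/
theorem exists_regular {Y : Type u} [Group Y] [Finite Y] (hs : IsSimpleGroup Y) (hY : IsLieTypeChar 2 Y) :
    ∃ z : Y, z ≠ 1 ∧ (∃ k, orderOf z = 2 ^ k) ∧ ∀ g : Y, g * z = z * g → ∀ r, r.Prime → r ≠ 2 → orderOf g ≠ r := by
  have : Fact (Nat.Prime 2) := ⟨Nat.prime_two⟩
  obtain ⟨P, U, hne, h, hc⟩ := Omega.ML.LieRow.CRB.hasSplitAb_of_lie hs hY
  obtain ⟨z, hzU, hz1, hz⟩ := LieSplit.exists_regular h hne (LiePair.torus_comm h hc)
  exact ⟨z, hz1, exists_orderOf_two_pow h.isP hzU, hz⟩

end Cfsg.Agent.H463.LieTwo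
end

-- part: H463/LieReg
section
/-!
# Regular unipotent elements in the simple groups of Lie type, every characteristic

* **`exists_regular`** : an element `z ≠ 1` of order a power of `p` whose centraliser is a `p`-group.
-/

set_option autoImplicit false

namespace Cfsg.Agent.H463.LieReg

open Cfsg

universe u

/-- The characteristic of a group of Lie type is prime. -/
theorem prime {p : ℕ} {Y : Type*} [Group Y] (hY : IsLieTypeChar p Y) : p.Prime := by
  rcases hY with h | h | h | h | h | h | h | h | h | h | h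
  · obtain ⟨F, _, _, _, h⟩ := h; exact CharP.char_is_prime F p
  · obtain ⟨F, _, _, _, h⟩ := h; exact CharP.char_is_prime F p
  · obtain ⟨F, _, _, _, h⟩ := h; exact CharP.char_is_prime F p
  · obtain ⟨F, _, _, _, h⟩ := h; exact CharP.char_is_prime F p
  · obtain ⟨F, _, _, _, h⟩ := h; exact CharP.char_is_prime F p
  · obtain ⟨F, _, _, _, h⟩ := h; exact CharP.char_is_prime F p
  · obtain ⟨F, _, _, _, h⟩ := h; exact CharP.char_is_prime F p
  · obtain ⟨F, _, _, _, h⟩ := h; exact CharP.char_is_prime F p
  · rw [h.1]; exact Nat.prime_two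
  · rw [h.1]; exact Nat.prime_two
  · rw [h.1]; exact Nat.prime_three

/-- **Regular unipotent elements.** -/
theorem exists_regular {p : ℕ} {Y : Type u} [Group Y] [Finite Y] (hs : IsSimpleGroup Y) (hY : IsLieTypeChar p Y) :
    ∃ z : Y, z ≠ 1 ∧ (∃ k, orderOf z = p ^ k) ∧ ∀ g : Y, g * z = z * g → ∀ r, r.Prime → r ≠ p → orderOf g ≠ r := by
  by_cases hp2 : p = 2
  · subst hp2
    exact LieTwo.exists_regular hs hY
  · exact LieOdd.exists_regular (prime hY) hp2 hs hY

/-- **Regular unipotent elements**, with `IsPGroup`. -/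
theorem exists_regular_isPGroup {p : ℕ} {Y : Type u} [Group Y] [Finite Y] (hs : IsSimpleGroup Y)
    (hY : IsLieTypeChar p Y) :
    ∃ z : Y, z ≠ 1 ∧ (∃ k, orderOf z = p ^ k) ∧ IsPGroup p ↥(Subgroup.centralizer ({z} : Set Y)) := by
  obtain ⟨z, h1, h2, h3⟩ := exists_regular hs hY
  exact ⟨z, h1, h2, LieOdd.isPGroup_of_regular (prime hY) h3⟩

end Cfsg.Agent.H463.LieReg
end
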